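import Groth.Agent.GLinExtLib.Coord
import Groth.Agent.RosenUnitLib.Split
import Groth.Agent.GrpShear
import Groth.Prelude

/-!
# Two lifts of an action to a line bundle agree when the group has no characters
-/

set_option autoImplicit false
set_option backward.isDefEq.respectTransparency false
set_option backward.isDefEq.respectTransparency.types false
set_option linter.style.haveILetI false
set_option maxHeartbeats 1600000

universe u

open CategoryTheory TopologicalSpace CategoryTheory.Limits MonoidalCategory CartesianMonoidalCategory AlgebraicGeometry Opposite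
open scoped MonObj

noncomputable section

namespace Groth.Agent.TwoLiftLib

open GLinExtLib

variable {k : Type u} [Field k]


theorem isField_gamma : IsField Γ(((𝟙_ (Over (Spec (CommRingCat.of k))))).left, ⊤) :=
  ((Scheme.ΓSpecIso (CommRingCat.of k)).commRingCatIsoToRingEquiv).toMulEquiv.isField (Field.toIsField k)

theorem mem_of_top_le {T : Over (Spec (CommRingCat.of k))} (p : (𝟙_ (Over (Spec (CommRingCat.of k)))) ⟶ T) {U : T.left.Opens} {t : ((𝟙_ (Over (Spec (CommRingCat.of k))))).left} (h : p.left t ∈ U) :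
    ⊤ ≤ p.left ⁻¹ᵁ U := by
  intro z _
  haveI : Subsingleton ((𝟙_ (Over (Spec (CommRingCat.of k))))).left := inferInstanceAs (Subsingleton (PrimeSpectrum k))
  rw [Subsingleton.elim z t]
  exact h

theorem appTop_ne_zero {T : Over (Spec (CommRingCat.of k))} (f : Γ(T.left, ⊤)) (p : (𝟙_ (Over (Spec (CommRingCat.of k)))) ⟶ T) {t : ((𝟙_ (Over (Spec (CommRingCat.of k))))).left}
    (ht : p.left t ∈ T.left.basicOpen f) : p.left.appTop f ≠ 0 := by
  intro h0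
  have : t ∈ ((𝟙_ (Over (Spec (CommRingCat.of k))))).left.basicOpen (p.left.appTop f) := by
    rw [← Scheme.preimage_basicOpen_top]
    exact ht
  rw [h0, Scheme.basicOpen_zero] at this
  exact this

theorem isUnit_of_points [IsAlgClosed k] {T : Over (Spec (CommRingCat.of k))} [LocallyOfFiniteType T.hom] (f : Γ(T.left, ⊤))
    (h : ∀ p : (𝟙_ (Over (Spec (CommRingCat.of k)))) ⟶ T, p.left.appTop f ≠ 0) : IsUnit f := by
  have hb : T.left.basicOpen f = ⊤ := by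
    by_contra hne
    have hne' : ((T.left.basicOpen f : Set T.left)ᶜ).Nonempty := by
      rw [Set.nonempty_compl]
      exact fun e => hne (Opens.ext e)
    obtain ⟨p, hp⟩ := OrbitLib.exists_rational_point (T.left.basicOpen f).isOpen.isClosed_compl hne'
    haveI : Nonempty ((𝟙_ (Over (Spec (CommRingCat.of k))))).left := inferInstanceAs (Nonempty (PrimeSpectrum k))
    obtain ⟨t⟩ := ‹Nonempty ((𝟙_ (Over (Spec (CommRingCat.of k))))).left›
    have hu : IsUnit (p.left.appTop f) := isField_gamma.mul_inv_cancel (h p) |>.elim fun b hb => .of_mul_eq_one b hb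
    have : t ∈ ((𝟙_ (Over (Spec (CommRingCat.of k))))).left.basicOpen (p.left.appTop f) := by
      rw [Scheme.basicOpen_of_isUnit _ hu]; trivial
    rw [← Scheme.preimage_basicOpen_top] at this
    exact hp ⟨t, rfl⟩ this
  exact T.left.toRingedSpace.isUnit_of_isUnit_germ ⊤ f fun x hx =>
    (T.left.mem_basicOpen f x hx).1 (by rw [hb]; trivial)

theorem isMonHom_ptOfUnit {G : Over (Spec (CommRingCat.of k))} [GrpObj G] (v : (Γ(G.left, ⊤))ˣ) (h1 : η[G].left.appTop (v : Γ(G.left, ⊤)) = 1)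
    (h2 : μ[G].left.appTop (v : Γ(G.left, ⊤)) = (fst G G).left.appTop (v : Γ(G.left, ⊤)) * (snd G G).left.appTop (v : Γ(G.left, ⊤))) :
    IsMonHom (GmPts.ptOfUnit v : G ⟶ Red.Gm (Spec (CommRingCat.of k))) where
  one_hom := by
    show η[G] ≫ (GmPts.ptOfUnit v : G ⟶ Red.Gm (Spec (CommRingCat.of k))) = η[Red.Gm (Spec (CommRingCat.of k))]
    conv_rhs => rw [MonObj.one_eq_one]
    apply GmPts.gmFn_injective
    show Red.gmFn _ = Red.gmFn _
    rw [GmPts.gmFn_comp, GmPts.gmFn_ptOfUnit, GmPts.gmFn_one, h1]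
  mul_hom := by
    rw [← lift_fst_comp_snd_comp, ← Hom.mul_def]
    apply GmPts.gmFn_injective
    show Red.gmFn _ = Red.gmFn _
    rw [GmPts.gmFn_mul, GmPts.gmFn_comp, GmPts.gmFn_comp, GmPts.gmFn_comp, GmPts.gmFn_ptOfUnit, h2]

theorem eq_one_of_no_character [IsAlgClosed k] {G : Over (Spec (CommRingCat.of k))} [GrpObj G] [Smooth G.hom] [QuasiCompact G.hom]
    [ConnectedSpace G.left] (hχ : ∀ (χ : G ⟶ Red.Gm (Spec (CommRingCat.of k))) [IsMonHom χ], χ = 1)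
    {f : Γ(G.left, ⊤)} (hf : IsUnit f) (he : η[G].left.appTop f = 1) : f = 1 := by
  haveI := RosenUnit.isReduced_of_smooth G
  have h2 := RosenUnit.unit_character hf he
  haveI := isMonHom_ptOfUnit hf.unit (by rw [hf.unit_spec]; exact he) (by rw [hf.unit_spec]; exact h2)
  have := congrArg (fun t => Red.gmFn t) (hχ (GmPts.ptOfUnit hf.unit : G ⟶ Red.Gm (Spec (CommRingCat.of k))))
  simp only [GmPts.gmFn_ptOfUnit, GmPts.gmFn_one] at this
  rw [← hf.unit_spec]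
  exact this

variable {G X V : Over (Spec (CommRingCat.of k))} {π : V ⟶ X}

/-- The coordinate of a rational point of the total space. -/
def cval {U : X.left.Opens} (y : Γ(V.left, π.left ⁻¹ᵁ U)) (p : (𝟙_ (Over (Spec (CommRingCat.of k)))) ⟶ V) (hp : ⊤ ≤ (p ≫ π).left ⁻¹ᵁ U) :
    Γ(((𝟙_ (Over (Spec (CommRingCat.of k))))).left, ⊤) :=
  p.left.appLE (π.left ⁻¹ᵁ U) ⊤ hp y

theorem cval_congr {U : X.left.Opens} (y : Γ(V.left, π.left ⁻¹ᵁ U)) {p q : (𝟙_ (Over (Spec (CommRingCat.of k)))) ⟶ V} (e : p = q)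
    (hp : ⊤ ≤ (p ≫ π).left ⁻¹ᵁ U) (hq : ⊤ ≤ (q ≫ π).left ⁻¹ᵁ U) : cval y p hp = cval y q hq := by
  subst e; rfl

theorem exists_point_coord (A : GLinSh.LinAtlas π) {U : X.left.Opens} (hU : IsAffineOpen U)
    {y : Γ(V.left, π.left ⁻¹ᵁ U)} (hy : GLinSh.IsFibreCoord π U y) (x : (𝟙_ (Over (Spec (CommRingCat.of k)))) ⟶ X) (hx : ⊤ ≤ x.left ⁻¹ᵁ U)
    (z : Γ(((𝟙_ (Over (Spec (CommRingCat.of k))))).left, ⊤)) :
    ∃ (p : (𝟙_ (Over (Spec (CommRingCat.of k)))) ⟶ V) (e : p ≫ π = x), cval y p (by rw [e]; exact hx) = z := by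
  haveI := A.affine
  obtain ⟨g, hg, hz⟩ := exists_hom_coord hU hy x.left hx z
  refine ⟨Over.homMk g (by rw [← Over.w π, ← Category.assoc, hg]; exact Over.w x), ?_, hz⟩
  ext1
  exact hg

theorem point_ext (A : GLinSh.LinAtlas π) {U : X.left.Opens} (hU : IsAffineOpen U)
    {y : Γ(V.left, π.left ⁻¹ᵁ U)} (hy : GLinSh.IsFibreCoord π U y) {p q : (𝟙_ (Over (Spec (CommRingCat.of k)))) ⟶ V} (e : p ≫ π = q ≫ π)
    (hp : ⊤ ≤ (p ≫ π).left ⁻¹ᵁ U) (hq : ⊤ ≤ (q ≫ π).left ⁻¹ᵁ U) (h : cval y p hp = cval y q hq) : p = q := by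
  haveI := A.affine
  ext1
  exact hom_ext_coord hU hy p.left q.left (by rw [← Over.comp_left, e, Over.comp_left]) hp hq h

theorem exists_affine_chart (A : GLinSh.LinAtlas π) (x : X.left) :
    ∃ (U : X.left.Opens) (y : Γ(V.left, π.left ⁻¹ᵁ U)), x ∈ U ∧ y ∈ A.chart U :=
  let ⟨U, hx, y, hy⟩ := A.cover x
  ⟨U, y, hx, hy⟩

variable [GrpObj G] {a : AlgGrp.Action G X}

/-- A linear lift is linear on rational points. -/
theorem lin_point (A : GLinSh.LinAtlas π) {Φ : AlgGrp.Action G V} {hπ : Φ.act ≫ π = (G ◁ π) ≫ a.act}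
    (hl : GLinSh.IsLinearLift a π Φ A.chart hπ) {U U' : X.left.Opens}
    {y : Γ(V.left, π.left ⁻¹ᵁ U)} {y' : Γ(V.left, π.left ⁻¹ᵁ U')} (hy : y ∈ A.chart U) (hy' : y' ∈ A.chart U')
    (g : (𝟙_ (Over (Spec (CommRingCat.of k)))) ⟶ G) (x : (𝟙_ (Over (Spec (CommRingCat.of k)))) ⟶ X) (hx : ⊤ ≤ x.left ⁻¹ᵁ U) (hx' : ⊤ ≤ (lift g x ≫ a.act).left ⁻¹ᵁ U') :
    ∃ C : Γ(((𝟙_ (Over (Spec (CommRingCat.of k))))).left, ⊤), ∀ (v : (𝟙_ (Over (Spec (CommRingCat.of k)))) ⟶ V) (e : v ≫ π = x) (h : ⊤ ≤ ((lift g v ≫ Φ.act) ≫ π).left ⁻¹ᵁ U'),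
      cval y' (lift g v ≫ Φ.act) h = C * cval y v (by rw [e]; exact hx) := by
  obtain ⟨c, hc⟩ := hl U U' y y' hy hy'
  have hle : ⊤ ≤ (lift g x).left ⁻¹ᵁ (a.act.left ⁻¹ᵁ U' ⊓ (snd G X).left ⁻¹ᵁ U) := by
    rw [Scheme.Hom.preimage_inf, le_inf_iff, ← Scheme.Hom.comp_preimage, ← Scheme.Hom.comp_preimage,
      ← Over.comp_left, ← Over.comp_left, lift_snd]
    exact ⟨hx', hx⟩
  refine ⟨(lift g x).left.appLE _ ⊤ hle c, fun v e h => ?_⟩
  have hw : lift g v ≫ (G ◁ π) = lift g x := by rw [lift_whiskerLeft, e]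
  have hlo : ⊤ ≤ (lift g v).left ⁻¹ᵁ GLinSh.liftOpen a π U U' := by
    have h1 : (lift g v).left ⁻¹ᵁ GLinSh.liftOpen a π U U' =
        (lift g v ≫ (G ◁ π)).left ⁻¹ᵁ (a.act.left ⁻¹ᵁ U' ⊓ (snd G X).left ⁻¹ᵁ U) := rfl
    rw [h1, hw]
    exact hle
  have := congrArg ((lift g v).left.appLE _ ⊤ hlo).hom hc
  rw [map_mul] at this
  refine Eq.trans ?_ (this.trans ?_)
  · exact (appLE_appLE' _ _ _ hlo y').symm
  · congr 1
    · refine (appLE_appLE' _ _ _ hlo c).trans ?_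
      exact appLE_hom (by rw [← Over.comp_left, hw]) _ _ c
    · refine (appLE_appLE' _ _ _ hlo y).trans ?_
      exact appLE_hom (by rw [← Over.comp_left, lift_snd]) _ _ y

variable (Φ₁ Φ₂ : AlgGrp.Action G V)

/-- `(g, v) ↦ g⁻¹ · (g · v)` for the two lifts. -/
def psi : G ⊗ V ⟶ V := lift (fst G V)⁻¹ Φ₂.act ≫ Φ₁.act

theorem lift_psi {T : Over (Spec (CommRingCat.of k))} (g : T ⟶ G) (v : T ⟶ V) :
    lift g v ≫ psi Φ₁ Φ₂ = lift g⁻¹ (lift g v ≫ Φ₂.act) ≫ Φ₁.act := by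
  rw [psi, comp_lift_assoc, GrpObj.comp_inv, lift_fst]

theorem psi_base {Φ₁ Φ₂ : AlgGrp.Action G V} (h₁ : Φ₁.act ≫ π = (G ◁ π) ≫ a.act)
    (h₂ : Φ₂.act ≫ π = (G ◁ π) ≫ a.act) : psi Φ₁ Φ₂ ≫ π = snd G V ≫ π := by
  rw [psi, Category.assoc, h₁, lift_whiskerLeft_assoc, h₂]
  have e : (G ◁ π) = lift (fst G V) (snd G V ≫ π) :=
    CartesianMonoidalCategory.hom_ext _ _ (by simp) (by simp)
  rw [e, ← GrpShear.lift_mul_act, inv_mul_cancel, GrpShear.lift_one_act]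

variable [IsAlgClosed k] [Smooth G.hom] [QuasiCompact G.hom] [ConnectedSpace G.left]

theorem psi_point (hχ : ∀ (χ : G ⟶ Red.Gm (Spec (CommRingCat.of k))) [IsMonHom χ], χ = 1) [LocallyOfFiniteType X.hom]
    (A : GLinSh.LinAtlas π) {Φ₁ Φ₂ : AlgGrp.Action G V} {h₁ : Φ₁.act ≫ π = (G ◁ π) ≫ a.act}
    {h₂ : Φ₂.act ≫ π = (G ◁ π) ≫ a.act}
    (hl₁ : GLinSh.IsLinearLift a π Φ₁ A.chart h₁) (hl₂ : GLinSh.IsLinearLift a π Φ₂ A.chart h₂)
    (g : (𝟙_ (Over (Spec (CommRingCat.of k)))) ⟶ G) (v : (𝟙_ (Over (Spec (CommRingCat.of k)))) ⟶ V) : lift g v ≫ psi Φ₁ Φ₂ = v := by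
  haveI : Subsingleton ((𝟙_ (Over (Spec (CommRingCat.of k))))).left := inferInstanceAs (Subsingleton (PrimeSpectrum k))
  haveI : Nonempty ((𝟙_ (Over (Spec (CommRingCat.of k))))).left := inferInstanceAs (Nonempty (PrimeSpectrum k))
  obtain ⟨t⟩ := ‹Nonempty ((𝟙_ (Over (Spec (CommRingCat.of k))))).left›
  obtain ⟨x, hvx⟩ : ∃ x, v ≫ π = x := ⟨_, rfl⟩
  obtain ⟨U₁, y₁, hxU₁, hy₁⟩ := exists_affine_chart A (x.left t)
  obtain ⟨U, hU, hxU, hUU₁⟩ := Opens.isBasis_iff_nbhd.1 X.left.isBasis_affineOpens hxU₁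
  have hx : ⊤ ≤ x.left ⁻¹ᵁ U := mem_of_top_le x hxU
  have hx₁ : ⊤ ≤ x.left ⁻¹ᵁ U₁ := mem_of_top_le x hxU₁
  let y := GLinSh.res π hUU₁ y₁
  have hyc : GLinSh.IsFibreCoord π U y := by
    intro W hW hWU
    have := A.coord U₁ y₁ hy₁ W hW (hWU.trans hUU₁)
    have e : GLinSh.res π hWU y = GLinSh.res π (hWU.trans hUU₁) y₁ :=
      rs_rs (π.left.preimage_mono hUU₁) (π.left.preimage_mono hWU) y₁
    rw [e]
    exact this
  have hval : ∀ (p : (𝟙_ (Over (Spec (CommRingCat.of k)))) ⟶ V) (hp : ⊤ ≤ (p ≫ π).left ⁻¹ᵁ U) (hp₁ : ⊤ ≤ (p ≫ π).left ⁻¹ᵁ U₁),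
      cval y p hp = cval y₁ p hp₁ := fun p hp hp₁ => appLE_rs p.left _ hp y₁
  -- scalars by which the composite acts
  have key : ∀ h : (𝟙_ (Over (Spec (CommRingCat.of k)))) ⟶ G, ∃ C : Γ(((𝟙_ (Over (Spec (CommRingCat.of k))))).left, ⊤), C ≠ 0 ∧ ∀ (w : (𝟙_ (Over (Spec (CommRingCat.of k)))) ⟶ V) (e : w ≫ π = x)
      (hh : ⊤ ≤ ((lift h w ≫ psi Φ₁ Φ₂) ≫ π).left ⁻¹ᵁ U),
      cval y (lift h w ≫ psi Φ₁ Φ₂) hh = C * cval y w (by rw [e]; exact hx) := by
    intro h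
    let x' : (𝟙_ (Over (Spec (CommRingCat.of k)))) ⟶ X := lift h x ≫ a.act
    obtain ⟨U', y', hxU', hy'⟩ := exists_affine_chart A (x'.left t)
    have hx' : ⊤ ≤ x'.left ⁻¹ᵁ U' := mem_of_top_le x' hxU'
    have hback : lift h⁻¹ x' ≫ a.act = x := by
      rw [← GrpShear.lift_mul_act, inv_mul_cancel, GrpShear.lift_one_act]
    obtain ⟨C₂, hC₂⟩ := lin_point A hl₂ hy₁ hy' h x hx₁ hx'
    obtain ⟨C₁, hC₁⟩ := lin_point A hl₁ hy' hy₁ h⁻¹ x' hx' (by rw [hback]; exact hx₁)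
    have hb2 : ∀ (w : (𝟙_ (Over (Spec (CommRingCat.of k)))) ⟶ V), w ≫ π = x → (lift h w ≫ Φ₂.act) ≫ π = x' := fun w e => by
      rw [Category.assoc, h₂, lift_whiskerLeft_assoc, e]
    have hb : ∀ (w : (𝟙_ (Over (Spec (CommRingCat.of k)))) ⟶ V), w ≫ π = x → (lift h w ≫ psi Φ₁ Φ₂) ≫ π = x := fun w e => by
      rw [Category.assoc, psi_base h₁ h₂, lift_snd_assoc, e]
    have hlin : ∀ (w : (𝟙_ (Over (Spec (CommRingCat.of k)))) ⟶ V) (e : w ≫ π = x) (hh : ⊤ ≤ ((lift h w ≫ psi Φ₁ Φ₂) ≫ π).left ⁻¹ᵁ U),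
        cval y (lift h w ≫ psi Φ₁ Φ₂) hh = C₁ * C₂ * cval y w (by rw [e]; exact hx) := by
      intro w e hh
      rw [hval _ hh (by rw [hb w e]; exact hx₁), hval w _ (by rw [e]; exact hx₁)]
      rw [cval_congr y₁ (lift_psi Φ₁ Φ₂ h w) _ (by rw [← lift_psi, hb w e]; exact hx₁),
        hC₁ _ (hb2 w e) (by rw [← lift_psi, hb w e]; exact hx₁), hC₂ w e (by rw [hb2 w e]; exact hx')]
      ring
    refine ⟨C₁ * C₂, fun h0 => ?_, hlin⟩
    obtain ⟨w₀, e₀, hw₀⟩ := exists_point_coord A hU hyc x hx 0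
    obtain ⟨w₁, e₁, hw₁⟩ := exists_point_coord A hU hyc x hx 1
    have := point_ext A hU hyc ((hb w₀ e₀).trans (hb w₁ e₁).symm) (by rw [hb w₀ e₀]; exact hx)
      (by rw [hb w₁ e₁]; exact hx) (by rw [hlin w₀ e₀, hlin w₁ e₁, h0, zero_mul, zero_mul])
    rw [lift_psi, lift_psi] at this
    have h' := congrArg (fun z => lift h⁻¹ (lift h z ≫ Φ₁.act) ≫ Φ₂.act) this
    simp only [← GrpShear.lift_mul_act, mul_inv_cancel, inv_mul_cancel, GrpShear.lift_one_act] at h'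
    have h01 : (0 : Γ(((𝟙_ (Over (Spec (CommRingCat.of k))))).left, ⊤)) = 1 := by
      rw [← hw₀, ← hw₁]
      exact cval_congr y h' _ _
    obtain ⟨a', b', hab⟩ := isField_gamma (k := k).exists_pair_ne
    exact hab (by rw [← mul_one a', ← mul_one b', ← h01, mul_zero, mul_zero])
  -- the function `g ↦ ψ(g, w₁)`
  obtain ⟨w₁, e₁, hw₁⟩ := exists_point_coord A hU hyc x hx 1
  let Ψ : G ⟶ V := lift (𝟙 G) (toUnit G ≫ w₁) ≫ psi Φ₁ Φ₂
  have hΨπ : Ψ ≫ π = toUnit G ≫ x := by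
    rw [Category.assoc, psi_base h₁ h₂, lift_snd_assoc, Category.assoc, e₁]
  have hΨ : ⊤ ≤ Ψ.left ⁻¹ᵁ (π.left ⁻¹ᵁ U) := by
    rw [← Scheme.Hom.comp_preimage, ← Over.comp_left, hΨπ, Over.comp_left, Scheme.Hom.comp_preimage]
    exact fun z _ => hx (Set.mem_univ _)
  let f : Γ(G.left, ⊤) := Ψ.left.appLE (π.left ⁻¹ᵁ U) ⊤ hΨ y
  have hf : ∀ h : (𝟙_ (Over (Spec (CommRingCat.of k)))) ⟶ G, ∀ hh : ⊤ ≤ ((lift h w₁ ≫ psi Φ₁ Φ₂) ≫ π).left ⁻¹ᵁ U,
      h.left.appTop f = cval y (lift h w₁ ≫ psi Φ₁ Φ₂) hh := by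
    intro h hh
    rw [Scheme.Hom.appTop, Scheme.Hom.app_eq_appLE]
    refine (appLE_appLE' _ _ _ _ y).trans (appLE_hom ?_ _ _ y)
    have e : h ≫ Ψ = lift h w₁ ≫ psi Φ₁ Φ₂ := by
      rw [comp_lift_assoc, Category.comp_id, comp_toUnit_assoc, toUnit_unit, Category.id_comp]
    exact show h.left ≫ Ψ.left = _ from congrArg (fun z => z.left) e
  have hbw : ∀ h : (𝟙_ (Over (Spec (CommRingCat.of k)))) ⟶ G, (lift h w₁ ≫ psi Φ₁ Φ₂) ≫ π = x := fun h => by
    rw [Category.assoc, psi_base h₁ h₂, lift_snd_assoc, e₁]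
  have hu : IsUnit f := isUnit_of_points f fun h => by
    obtain ⟨C, hC0, hC⟩ := key h
    rw [hf h (by rw [hbw h]; exact hx), hC w₁ e₁, hw₁, mul_one]
    exact hC0
  have hone : lift (1 : (𝟙_ (Over (Spec (CommRingCat.of k)))) ⟶ G) w₁ ≫ psi Φ₁ Φ₂ = w₁ := by
    rw [lift_psi, inv_one, GrpShear.lift_one_act, GrpShear.lift_one_act]
  have hf1 : f = 1 := eq_one_of_no_character hχ hu (by
    rw [MonObj.one_eq_one, hf 1 (by rw [hbw]; exact hx), cval_congr y hone _ (by rw [e₁]; exact hx), hw₁])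
  obtain ⟨C, -, hC⟩ := key g
  have hC1 : C = 1 := by
    have := hC w₁ e₁ (by rw [hbw]; exact hx)
    rw [← hf g, hf1, map_one, hw₁, mul_one] at this
    exact this.symm
  have hb : (lift g v ≫ psi Φ₁ Φ₂) ≫ π = v ≫ π := by
    rw [Category.assoc, psi_base h₁ h₂, lift_snd_assoc]
  refine point_ext A hU hyc hb (by rw [hb, hvx]; exact hx) (by rw [hvx]; exact hx) ?_
  rw [hC v hvx, hC1, one_mul]

theorem act_eq (hχ : ∀ (χ : G ⟶ Red.Gm (Spec (CommRingCat.of k))) [IsMonHom χ], χ = 1) [LocallyOfFiniteType X.hom] [IsReduced X.left]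
    (A : GLinSh.LinAtlas π) {Φ₁ Φ₂ : AlgGrp.Action G V} {h₁ : Φ₁.act ≫ π = (G ◁ π) ≫ a.act}
    {h₂ : Φ₂.act ≫ π = (G ◁ π) ≫ a.act}
    (hl₁ : GLinSh.IsLinearLift a π Φ₁ A.chart h₁) (hl₂ : GLinSh.IsLinearLift a π Φ₂ A.chart h₂) :
    Φ₁.act = Φ₂.act := by
  haveI := A.affine
  haveI : Smooth π.left := by
    rw [HasRingHomProperty.iff_exists_appLE (P := @Smooth) (RingHom.Smooth.stableUnderComposition.stableUnderCompositionWithLocalizationAway
      RingHom.Smooth.holdsForLocalizationAway).1]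
    intro v
    obtain ⟨U₁, y₁, hv, hy₁⟩ := exists_affine_chart A (π.left v)
    obtain ⟨U, hU, hxU, hUU₁⟩ := Opens.isBasis_iff_nbhd.1 X.left.isBasis_affineOpens hv
    refine ⟨⟨U, hU⟩, ⟨_, hU.preimage π.left⟩, hxU, le_rfl, ?_⟩
    rw [← Scheme.Hom.app_eq_appLE]
    have hb := A.coord U₁ y₁ hy₁ U hU hUU₁
    have hC : RingHom.Smooth (Polynomial.C (R := Γ(X.left, U))) :=
      RingHom.smooth_algebraMap.2 (@Algebra.Smooth.mk _ _ _ _ _ inferInstance (Algebra.FinitePresentation.equiv (MvPolynomial.uniqueAlgEquiv Γ(X.left, U) (Fin 1))))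
    have e : (π.left.app U).hom = (RingEquiv.ofBijective _ hb).toRingHom.comp Polynomial.C := by
      ext c
      simp
    rw [e]
    exact RingHom.Smooth.respectsIso.1 _ _ hC
  haveI : LocallyOfFiniteType V.hom := by rw [← Over.w π]; infer_instance
  haveI : IsReduced V.left := AlgSpLib.isReduced_of_smooth π.left
  haveI : Smooth (snd G V).left := by rw [Over.snd_left]; exact MorphismProperty.pullback_snd _ _ ‹Smooth G.hom›
  haveI : IsReduced (G ⊗ V).left := AlgSpLib.isReduced_of_smooth (snd G V).left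
  haveI : LocallyOfFiniteType (G ⊗ V).hom := by rw [← Over.w (snd G V)]; infer_instance
  have hψ : psi Φ₁ Φ₂ = snd G V := by
    have hπ : (psi Φ₁ Φ₂).left ≫ π.left = (snd G V).left ≫ π.left := by
      rw [← Over.comp_left, psi_base h₁ h₂, Over.comp_left]
    have hloc : ∀ z : (G ⊗ V).left, ∃ O : (G ⊗ V).left.Opens, z ∈ O ∧
        O.ι ≫ (psi Φ₁ Φ₂).left = O.ι ≫ (snd G V).left := by
      intro z
      obtain ⟨U₁, y₁, hv, hy₁⟩ := exists_affine_chart A (π.left ((snd G V).left z))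
      obtain ⟨U, hU, hxU, hUU₁⟩ := Opens.isBasis_iff_nbhd.1 X.left.isBasis_affineOpens hv
      let y := GLinSh.res π hUU₁ y₁
      have hyc : GLinSh.IsFibreCoord π U y := by
        intro W hW hWU
        have := A.coord U₁ y₁ hy₁ W hW (hWU.trans hUU₁)
        rw [show GLinSh.res π hWU y = GLinSh.res π (hWU.trans hUU₁) y₁ from
          rs_rs (π.left.preimage_mono hUU₁) (π.left.preimage_mono hWU) y₁]
        exact this
      let O : (G ⊗ V).left.Opens := (snd G V).left ⁻¹ᵁ (π.left ⁻¹ᵁ U)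
      have hO' : O ≤ (psi Φ₁ Φ₂).left ⁻¹ᵁ (π.left ⁻¹ᵁ U) := by
        rw [← Scheme.Hom.comp_preimage, hπ]; exact le_rfl
      refine ⟨O, hxU, ?_⟩
      have e1 : (psi Φ₁ Φ₂).left.appLE _ O hO' y = (snd G V).left.appLE _ O le_rfl y := by
        by_contra hne
        have hd : (G ⊗ V).left.basicOpen
            ((psi Φ₁ Φ₂).left.appLE _ O hO' y - (snd G V).left.appLE _ O le_rfl y) ≠ ⊥ := fun hb =>
          hne (sub_eq_zero.1 ((basicOpen_eq_bot_iff _).1 hb))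
        obtain ⟨z', hz'⟩ : ((G ⊗ V).left.basicOpen
            ((psi Φ₁ Φ₂).left.appLE _ O hO' y - (snd G V).left.appLE _ O le_rfl y) : Set (G ⊗ V).left).Nonempty :=
          Set.nonempty_iff_ne_empty.2 fun hb => hd (Opens.ext hb)
        haveI : JacobsonSpace (G ⊗ V).left := LocallyOfFiniteType.jacobsonSpace (G ⊗ V).hom
        obtain ⟨q, hqb, hq⟩ := nonempty_inter_closedPoints ⟨z', hz'⟩ (Scheme.basicOpen _ _).isOpen.isLocallyClosed
        obtain ⟨p, hp⟩ := OrbitLib.exists_rational_point (X := G ⊗ V) hq ⟨q, rfl⟩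
        haveI : Nonempty ((𝟙_ (Over (Spec (CommRingCat.of k))))).left := inferInstanceAs (Nonempty (PrimeSpectrum k))
        obtain ⟨t⟩ := ‹Nonempty ((𝟙_ (Over (Spec (CommRingCat.of k))))).left›
        have hpq : p.left t = q := hp ⟨t, rfl⟩
        have hpO : ⊤ ≤ p.left ⁻¹ᵁ O := mem_of_top_le p (t := t) (by rw [hpq]; exact (Scheme.basicOpen_le (G ⊗ V).left _ : (G ⊗ V).left.basicOpen _ ≤ O) hqb)
        have hpO' : ⊤ ≤ (p.left ≫ (snd G V).left) ⁻¹ᵁ (π.left ⁻¹ᵁ U) := hpO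
        have hmem : t ∈ p.left ⁻¹ᵁ (G ⊗ V).left.basicOpen
            ((psi Φ₁ Φ₂).left.appLE _ O hO' y - (snd G V).left.appLE _ O le_rfl y) := by
          rw [← hpq] at hqb
          exact hqb
        have hmem' : t ∈ ((𝟙_ (Over (Spec (CommRingCat.of k))))).left.basicOpen (p.left.appLE O ⊤ hpO
            ((psi Φ₁ Φ₂).left.appLE _ O hO' y - (snd G V).left.appLE _ O le_rfl y)) := by
          rw [Scheme.basicOpen_appLE]
          exact ⟨trivial, hmem⟩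
        have hpp : p ≫ psi Φ₁ Φ₂ = p ≫ snd G V := by
          have := psi_point hχ A hl₁ hl₂ (p ≫ fst G V) (p ≫ snd G V)
          rwa [← comp_lift, lift_fst_snd, Category.comp_id] at this
        rw [map_sub, appLE_appLE', appLE_appLE', appLE_hom (show p.left ≫ (psi Φ₁ Φ₂).left = p.left ≫ (snd G V).left by
          rw [← Over.comp_left, hpp, Over.comp_left]) _ hpO', sub_self, Scheme.basicOpen_zero] at hmem'
        exact hmem'
      refine hom_ext_coord hU hyc _ _ (by rw [Category.assoc, hπ, Category.assoc]) ?_ ?_ ?_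
      · exact fun w _ => hO' w.2
      · exact fun w _ => w.2
      · rw [← appLE_appLE' O.ι (psi Φ₁ Φ₂).left (O' := O) hO' (fun w _ => w.2) y,
          ← appLE_appLE' O.ι (snd G V).left (O' := O) le_rfl (fun w _ => w.2) y, e1]
    ext1
    let c : (G ⊗ V).left.OpenCover := Scheme.openCoverOfIsOpenCover _ (fun z => (hloc z).choose) (by
      rw [IsOpenCover, eq_top_iff]
      exact fun z _ => TopologicalSpace.Opens.mem_iSup.2 ⟨z, (hloc z).choose_spec.1⟩)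
    exact c.hom_ext _ _ fun z => (hloc z).choose_spec.2
  have h := lift_psi Φ₁ Φ₂ (fst G V) (snd G V)
  rw [hψ, lift_snd, lift_fst_snd, Category.id_comp] at h
  have h' := congrArg (fun z => lift (fst G V) z ≫ Φ₁.act) h
  simp only [← GrpShear.lift_mul_act, mul_inv_cancel, GrpShear.lift_one_act] at h'
  rwa [lift_fst_snd, Category.id_comp] at h'

end Groth.Agent.TwoLiftLib

end
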